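import Groth.Agent.SectSmoothLib.Alg
import Mathlib.AlgebraicGeometry.Morphisms.Smooth
import Mathlib.AlgebraicGeometry.Morphisms.Flat
import Mathlib.RingTheory.DedekindDomain.Dvr

/-!
# Sections lie in the smooth locus
-/

set_option autoImplicit false
set_option linter.style.haveILetI false
universe u

open AlgebraicGeometry CategoryTheory

namespace SectSmoothLib

theorem appLE_germ_of_eq_id {Y : Scheme.{u}} (g : Y ⟶ Y) (hg : g = 𝟙 Y) (W : Y.Opens) (h : W ≤ g ⁻¹ᵁ ⊤)
    (t : Y) (ht : t ∈ W) : g.appLE ⊤ W h ≫ Y.presheaf.germ W t ht = Y.presheaf.germ ⊤ t trivial := by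
  subst hg
  simp [Scheme.Hom.appLE, TopCat.Presheaf.germ_res]

theorem main {R : Type u} [CommRing R] [IsDedekindDomain R]
    {X : Scheme.{u}} (f : X ⟶ Spec (CommRingCat.of R)) [Flat f] [LocallyOfFinitePresentation f]
    (hreg : ∀ x : X, IsRegularLocalRing (X.presheaf.stalk x))
    (s : Spec (CommRingCat.of R) ⟶ X) (hs : s ≫ f = 𝟙 _) (t : Spec (CommRingCat.of R)) :
    s.base t ∈ f.smoothLocus := by
  let Y := Spec (CommRingCat.of R)
  obtain ⟨_, ⟨V, hV, rfl⟩, hxV, -⟩ :=
    X.isBasis_affineOpens.exists_subset_of_mem_open (Set.mem_univ (s t)) isOpen_univ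
  have hU : IsAffineOpen (⊤ : Y.Opens) := isAffineOpen_top Y
  have hVU : V ≤ f ⁻¹ᵁ ⊤ := le_top
  have hfl := Flat.flat_appLE f hU hV hVU
  have hfp := f.finitePresentation_appLE hU hV hVU
  algebraize [(f.appLE ⊤ V hVU).hom]
  rw [Scheme.Hom.mem_smoothLocus, formallySmooth_stalkMap_iff ⊤ hU V hV hVU hxV]
  let q := (hV.primeIdealOf ⟨s t, hxV⟩).asIdeal
  have hfs : f (s t) = t := by rw [← Scheme.Hom.comp_apply, hs]; rfl
  let p := (hU.primeIdealOf ⟨t, trivial⟩).asIdeal
  have : q.LiesOver p := ⟨by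
    have := congr($(IsAffineOpen.comap_primeIdealOf_appLE ⊤ hU V hV hVU hxV).1)
    simp only [hfs] at this
    exact this.symm⟩
  letI := X.presheaf.algebra_section_stalk (U := V) ⟨s t, hxV⟩
  letI := Y.presheaf.algebra_section_stalk (U := ⊤) ⟨t, trivial⟩
  have hlX := hV.isLocalization_stalk ⟨s t, hxV⟩
  have hlY := hU.isLocalization_stalk ⟨t, trivial⟩
  let eX := IsLocalization.algEquiv q.primeCompl (Localization.AtPrime q) (X.presheaf.stalk (⟨s t, hxV⟩ : V.1))
  let eY := IsLocalization.algEquiv p.primeCompl (Y.presheaf.stalk t) (Localization.AtPrime p)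
  haveI : IsRegularLocalRing (Localization.AtPrime q) :=
    haveI : IsRegularLocalRing (X.presheaf.stalk (⟨s t, hxV⟩ : V.1)) := hreg _
    IsRegularLocalRing.of_ringEquiv eX.symm.toRingEquiv
  -- the stalk of the base is a principal ideal ring
  haveI : IsPrincipalIdealRing (Y.presheaf.stalk t) := by
    let St := Localization.AtPrime t.asIdeal
    haveI : IsPrincipalIdealRing St := by
      by_cases hp : t.asIdeal = ⊥
      · haveI : IsFractionRing R St := by
          show IsLocalization (nonZeroDivisors R) _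
          have e : t.asIdeal.primeCompl = nonZeroDivisors R := SetLike.ext fun a => by
            show a ∉ t.asIdeal ↔ _
            rw [hp, Ideal.mem_bot, mem_nonZeroDivisors_iff_ne_zero]
          rw [← e]; infer_instance
        let _ : Field St := IsFractionRing.toField R
        infer_instance
      · haveI := IsLocalization.AtPrime.isDiscreteValuationRing_of_dedekind_domain R hp St
        infer_instance
    let e := (StructureSheaf.stalkIso R t)
    exact IsPrincipalIdealRing.of_surjective e.toRingEquiv.toRingHom e.toRingEquiv.surjective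
  haveI : IsPrincipalIdealRing (Localization.AtPrime p) :=
    IsPrincipalIdealRing.of_surjective eY.toAlgHom.toRingHom eY.surjective
  haveI : IsNoetherianRing (Localization.AtPrime p) := inferInstance
  let σ : Localization.AtPrime q →+* Localization.AtPrime p :=
    eY.toAlgHom.toRingHom.comp ((s.stalkMap t).hom.comp eX.toAlgHom.toRingHom)
  refine isSmoothAt Γ(Y, ⊤) Γ(X, V) p q σ (RingHom.ext fun r => ?_)
  show eY ((s.stalkMap t).hom (eX (algebraMap Γ(Y, ⊤) (Localization.AtPrime q) r))) = _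
  rw [IsScalarTower.algebraMap_apply Γ(Y, ⊤) Γ(X, V) (Localization.AtPrime q), AlgEquiv.commutes]
  have key : (f.appLE ⊤ V hVU) ≫ X.presheaf.germ V (s t) hxV ≫ s.stalkMap t =
      Y.presheaf.germ ⊤ t trivial := by
    rw [Scheme.Hom.germ_stalkMap, Scheme.Hom.app_eq_appLE]
    rw [← Category.assoc, Scheme.Hom.appLE_comp_appLE]
    exact appLE_germ_of_eq_id _ hs _ _ _ _
  have hk : (s.stalkMap t).hom (algebraMap Γ(X, V) (X.presheaf.stalk (⟨s t, hxV⟩ : V.1))
      (algebraMap Γ(Y, ⊤) Γ(X, V) r)) = algebraMap Γ(Y, ⊤) (Y.presheaf.stalk t) r :=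
    congr($(key).hom r)
  rw [hk, AlgEquiv.commutes]

end SectSmoothLib
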