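import Groth.Agent.CohenLib.SmoothPoint
import Groth.Agent.CommAlgDim.Regular
import Mathlib.RingTheory.Smooth.Fiber
import Mathlib.RingTheory.Smooth.Locus
import Mathlib.RingTheory.TensorProduct.Quotient
import Mathlib.RingTheory.Flat.Localization

/-!
# Smoothness along a section of a regular algebra over a Dedekind base
-/

set_option autoImplicit false
set_option linter.style.haveILetI false
universe u

open IsLocalRing TensorProduct

namespace SectSmoothLib

theorem isGeometricallyReduced_self (k : Type u) [Field k] : Algebra.IsGeometricallyReduced k k := by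
  rw [Algebra.isGeometricallyReduced_field_iff]
  exact isReduced_of_injective _ (Algebra.TensorProduct.rid k k (AlgebraicClosure k)).injective

/-- The closed fibre of a regular local algebra with a retraction over a base with principal maximal ideal. -/
theorem formallySmooth_fibre (R S : Type u) [CommRing R] [IsLocalRing R] [IsNoetherianRing R]
    [IsPrincipalIdealRing R] [CommRing S] [IsRegularLocalRing S] [Algebra R S]
    [IsLocalHom (algebraMap R S)] [Algebra.EssFiniteType R S]
    (σ : S →+* R) (hσ : ∀ r, σ (algebraMap R S r) = r) :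
    Algebra.FormallySmooth (ResidueField R) (ResidueField R ⊗[R] S) := by
  have hσs : Function.Surjective σ := fun r => ⟨_, hσ r⟩
  haveI : IsLocalHom σ := Function.Surjective.isLocalHom σ hσs
  let I := (maximalIdeal R).map (algebraMap R S)
  obtain ⟨π, hπ⟩ := (IsPrincipalIdealRing.principal (maximalIdeal R)).principal
  have hI : I = Ideal.span {algebraMap R S π} := by
    show (maximalIdeal R).map _ = _
    rw [hπ, Ideal.submodule_span_eq, Ideal.map_span, Set.image_singleton]
  have hπm : π ∈ maximalIdeal R := hπ ▸ Submodule.mem_span_singleton_self π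
  have hπS : algebraMap R S π ∈ maximalIdeal S := map_nonunit (algebraMap R S) π hπm
  have hne : I ≠ ⊤ := fun h => (maximalIdeal.isMaximal S).ne_top
    (top_le_iff.1 (h ▸ Ideal.map_le_iff_le_comap.2 fun a ha => map_nonunit (algebraMap R S) a ha))
  haveI : Nontrivial (S ⧸ I) := Ideal.Quotient.nontrivial_iff.2 hne
  haveI : IsRegularLocalRing (S ⧸ I) := by
    by_cases h0 : algebraMap R S π = 0
    · have hI0 : I = ⊥ := by rw [hI, h0, Ideal.span_singleton_eq_bot]
      exact IsRegularLocalRing.of_ringEquiv
        ((RingEquiv.quotientBot S).symm.trans (Ideal.quotEquivOfEq hI0.symm))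
    · have h2 : algebraMap R S π ∉ maximalIdeal S ^ 2 := by
        intro h
        have h1 : σ (algebraMap R S π) ∈ maximalIdeal R ^ 2 := by
          have hle : (maximalIdeal S ^ 2).map σ ≤ maximalIdeal R ^ 2 := by
            rw [Ideal.map_pow]
            exact Ideal.pow_right_mono (Ideal.map_le_iff_le_comap.2 fun a ha => by rw [Ideal.mem_comap]; exact map_nonunit σ a ha) 2
          exact hle (Ideal.mem_map_of_mem σ h)
        rw [hσ, hπ, Ideal.submodule_span_eq, Ideal.span_singleton_pow, Ideal.mem_span_singleton] at h1
        obtain ⟨c, hc⟩ := h1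
        have h' : π * (1 - π * c) = 0 := by linear_combination hc
        have hu : IsUnit (1 - π * c) :=
          IsLocalRing.isUnit_one_sub_self_of_mem_nonunits _ ((maximalIdeal R).mul_mem_right c hπm)
        exact h0 (by rw [hu.mul_left_eq_zero.1 h', map_zero])
      haveI := CommAlgDim.isRegularLocalRing_quotient_singleton hπS h2
      exact IsRegularLocalRing.of_ringEquiv (Ideal.quotEquivOfEq hI.symm)
  -- the fibre as an algebra over the residue field
  let F := S ⧸ I
  let ρ : ResidueField R →+* F :=
    Ideal.Quotient.lift (maximalIdeal R) ((Ideal.Quotient.mk I).comp (algebraMap R S))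
      fun a ha => Ideal.Quotient.eq_zero_iff_mem.2 (Ideal.mem_map_of_mem _ ha)
  letI : Algebra (ResidueField R) F := ρ.toAlgebra
  haveI : IsScalarTower R (ResidueField R) F := IsScalarTower.of_algebraMap_eq fun r => rfl
  haveI : Algebra.EssFiniteType R F := Algebra.EssFiniteType.comp R S F
  haveI : Algebra.EssFiniteType (ResidueField R) F := Algebra.EssFiniteType.of_comp R _ _
  let τ : F →+* ResidueField R := Ideal.Quotient.lift I ((residue R).comp σ) fun a ha => by
    rw [RingHom.comp_apply, IsLocalRing.residue_eq_zero_iff]
    exact map_nonunit σ a ((Ideal.map_le_iff_le_comap.2 fun r hr => map_nonunit (algebraMap R S) r hr :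
      I ≤ maximalIdeal S) ha)
  have hτρ : ∀ z, τ (ρ z) = z := fun z => by
    obtain ⟨r, rfl⟩ := Ideal.Quotient.mk_surjective z
    show residue R (σ (algebraMap R S r)) = _
    rw [hσ]; rfl
  haveI : IsLocalHom τ := Function.Surjective.isLocalHom τ fun z => ⟨ρ z, hτρ z⟩
  let τ' : ResidueField F →ₐ[ResidueField R] ResidueField R :=
    { Ideal.Quotient.lift (maximalIdeal F) τ (fun a ha => by
        have := map_nonunit τ a ha
        rwa [IsLocalRing.maximalIdeal_eq_bot, Ideal.mem_bot] at this) with
      commutes' := fun z => hτρ z }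
  haveI := isGeometricallyReduced_self (ResidueField R)
  haveI : Algebra.IsGeometricallyReduced (ResidueField R) (ResidueField F) :=
    Algebra.IsGeometricallyReduced.of_injective τ' τ'.toRingHom.injective
  haveI : Algebra.FormallySmooth (ResidueField R) F := CohenLib.formallySmooth_of_regular
  let e := (Algebra.TensorProduct.quotIdealMapEquivTensorQuot S (maximalIdeal R)).toRingEquiv.trans
    (Algebra.TensorProduct.comm R S (R ⧸ maximalIdeal R)).toRingEquiv
  refine Algebra.FormallySmooth.of_equiv (A := F) (AlgEquiv.ofRingEquiv (f := e) fun z => ?_)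
  obtain ⟨r, rfl⟩ := Ideal.Quotient.mk_surjective z
  show (Algebra.TensorProduct.comm R S (R ⧸ maximalIdeal R))
    (Algebra.TensorProduct.quotIdealMapEquivTensorQuot S (maximalIdeal R) (algebraMap S F (algebraMap R S r))) = _
  rw [AlgEquiv.commutes, ← IsScalarTower.algebraMap_apply R S (S ⊗[R] (R ⧸ maximalIdeal R)),
    AlgEquiv.commutes]
  exact IsScalarTower.algebraMap_apply R (ResidueField R) (ResidueField R ⊗[R] S) r

theorem isSmoothAt (R S : Type u) [CommRing R] [CommRing S] [Algebra R S] [Module.Flat R S]
    [Algebra.FinitePresentation R S] (p : Ideal R) [p.IsPrime] (q : Ideal S) [q.IsPrime] [q.LiesOver p]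
    [IsNoetherianRing (Localization.AtPrime p)] [IsPrincipalIdealRing (Localization.AtPrime p)]
    [IsRegularLocalRing (Localization.AtPrime q)]
    (σ : Localization.AtPrime q →+* Localization.AtPrime p)
    (hσ : σ.comp (algebraMap R (Localization.AtPrime q)) = algebraMap R (Localization.AtPrime p)) :
    Algebra.IsSmoothAt R q := by
  let Rp := Localization.AtPrime p
  let Sp := Localization (Algebra.algebraMapSubmonoid S p.primeCompl)
  let Sq := Localization.AtPrime q
  let := Localization.AtPrime.algebraOfLiesOver p q
  let f : Sp →ₐ[S] Sq := IsLocalization.liftAlgHom (M := Algebra.algebraMapSubmonoid S p.primeCompl)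
        (f := Algebra.ofId _ _) (by
      rintro ⟨_, x, hx, rfl⟩
      simpa using! IsLocalization.map_units (M := q.primeCompl) Sq ⟨algebraMap _ _ x,
        by simp_all [q.over_def p]⟩)
  algebraize [f.toRingHom]
  have : IsScalarTower R Sp Sq := .to₁₃₄ _ S _ _
  have : IsScalarTower Rp Sp Sq := .of_algebraMap_eq' <| by
    apply IsLocalization.ringHom_ext p.primeCompl
    simp only [RingHom.comp_assoc, ← IsScalarTower.algebraMap_eq]
  have : IsLocalization (Algebra.algebraMapSubmonoid Sp q.primeCompl) Sq :=
    .isLocalization_of_submonoid_le _ _ (Algebra.algebraMapSubmonoid S p.primeCompl) _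
    (by rintro _ ⟨x, hx, rfl⟩; simp_all [q.over_def p])
  have : Algebra.FinitePresentation Rp Sp := by
    have : Algebra.IsPushout R Rp S Sp :=
      .symm <| Algebra.isPushout_of_isLocalization p.primeCompl _ _ _
    exact .equiv (Algebra.IsPushout.equiv R Rp S Sp)
  haveI : Module.Flat S Sq := IsLocalization.flat Sq q.primeCompl
  haveI : Module.Flat R Sq := Module.Flat.trans R S Sq
  haveI : Module.Flat Rp Sq := (Module.flat_iff_of_isLocalization Rp p.primeCompl Sq).2 inferInstance
  haveI : Algebra.EssFiniteType S Sq := Algebra.EssFiniteType.of_isLocalization _ q.primeCompl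
  haveI : Algebra.EssFiniteType R Sq := Algebra.EssFiniteType.comp R S Sq
  haveI : Algebra.EssFiniteType Rp Sq := Algebra.EssFiniteType.of_comp R _ _
  haveI := formallySmooth_fibre Rp Sq σ (RingHom.congr_fun (IsLocalization.ringHom_ext p.primeCompl
    (j := σ.comp (algebraMap Rp Sq)) (k := RingHom.id _) (by
      rw [RingHom.comp_assoc, ← IsScalarTower.algebraMap_eq, hσ, RingHom.id_comp])))
  have := Algebra.FormallySmooth.of_formallySmooth_residueField_tensor
    (R := Rp) (S := Sq) (P := Sp) (Algebra.algebraMapSubmonoid _ q.primeCompl)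
  exact Algebra.FormallySmooth.comp R Rp Sq

end SectSmoothLib
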